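import Cfsg.Agent.Lib.Recog.GTwoFourJTwo.Data
import Mathlib

/-!
Certificates that a point stabiliser is maximal in a transitive group (owner: helper18).

From a point moved by an overgroup every point of the orbit is derived, by words fixing the base point and by the
words of the transversal at points already derived.
-/

set_option autoImplicit false

namespace CfsgLib.Recog.GTwoFourJTwo

/-- Membership of numbers. -/
def nmem (x : ℕ) (L : List ℕ) : Bool := L.any fun y => Nat.beq x y

theorem nmem_iff {x : ℕ} {L : List ℕ} : nmem x L = true ↔ x ∈ L := by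
  simp [nmem, List.any_eq_true]

/-- The image of a point under a letter. -/
def pt (k i : ℕ) : ℕ := ((tabs.getD k 0) >>> (9 * i)) &&& 511

/-- The image of a point under a word. -/
def wAct (w : List ℕ) (i : ℕ) : ℕ := w.foldr (fun k y => pt k y) i

/-- A transitive action of a group on some of the points, and certificates. -/
structure Ctx where
  /-- the letters -/
  kl : List ℕ
  /-- the base point -/
  r : ℕ
  /-- the orbit -/
  pts : List ℕ
  /-- words reaching the points -/
  trans : List (List ℕ)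
  /-- words fixing the base point -/
  stab : List (List ℕ)
  /-- ways to the representatives -/
  paths : List (List ℕ)
  /-- derivations from the representatives -/
  progs : List (List (ℕ × ℕ × ℕ × ℕ))

namespace Ctx

variable (C : Ctx)

/-- The word reaching a point. -/
def vOf (c : ℕ) : List ℕ := C.trans.getD (C.pts.idxOf c) []

/-- A word in the letters. -/
def letters (w : List ℕ) : Bool := w.all fun k => nmem k C.kl

/-- A derived point. -/
def entryOK (E : List (ℕ × ℕ × ℕ × ℕ)) : ℕ → ℕ × ℕ × ℕ × ℕ → Bool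
  | 0, _ => true
  | j + 1, (q, 0, k, b) => Nat.blt k C.stab.length && Nat.blt b (j + 1) &&
      Nat.beq q (wAct (C.stab.getD k []) (E.getD b (0, 0, 0, 0)).1)
  | j + 1, (q, c + 1, _, b) => Nat.blt c (j + 1) && Nat.blt b (j + 1) && nmem (E.getD c (0, 0, 0, 0)).1 C.pts &&
      Nat.beq q (wAct (C.vOf (E.getD c (0, 0, 0, 0)).1) (E.getD b (0, 0, 0, 0)).1)

/-- A closure covering the orbit. -/
def progOK (E : List (ℕ × ℕ × ℕ × ℕ)) : Bool :=
  (((List.range E.length).zip E).all fun e => C.entryOK E e.1 e.2) &&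
    C.pts.all fun p => nmem p (E.map Prod.fst)

/-- The point at the end of a path. -/
def pathEnd (p : List ℕ) (x : ℕ) : ℕ := p.foldl (fun y k => wAct (C.stab.getD k []) y) x

/-- All the checks. -/
def ok : Bool :=
  (C.stab.all fun w => C.letters w && Nat.beq (wAct w C.r) C.r) &&
  (Nat.beq C.pts.length C.trans.length && Nat.beq C.pts.length C.paths.length && nmem C.r C.pts) &&
  ((C.pts.zip C.trans).all fun e => C.letters e.2 && Nat.beq (wAct e.2 C.r) e.1) &&
  (C.kl.all fun k => C.pts.all fun p => nmem (pt k p) C.pts) &&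
  (C.progs.all fun E => C.progOK E) &&
  ((C.pts.zip C.paths).all fun e => Nat.beq e.1 C.r ||
    (e.2.all (fun k => Nat.blt k C.stab.length) &&
      nmem (C.pathEnd e.2 e.1) (C.progs.map fun E => (E.getD 0 (0, 0, 0, 0)).1)))

section

variable {C} {G : Type*} [Group G] (a : ℕ → G) (act : G →* Equiv.Perm (Fin 416))
  (hact : ∀ k, k < 6 → ∀ i : Fin 416, ((act (a k)) i).1 = pt k i.1)
include hact

theorem act_word : ∀ w : List ℕ, (∀ k ∈ w, k < 6) → ∀ i : Fin 416, ((act (w.map a).prod) i).1 = wAct w i.1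
  | [], _, i => by simp [wAct]
  | k :: w, h, i => by
    rw [List.map_cons, List.prod_cons, map_mul, Equiv.Perm.mul_apply, hact k (h k (by simp)),
      act_word w (fun j hj => h j (List.mem_cons_of_mem _ hj)) i]
    rfl

/-- The dichotomy for overgroups of the stabiliser. -/
theorem dichotomy (hC : C.ok = true) (h6 : ∀ k ∈ C.kl, k < 6) (r : Fin 416) (hr : r.1 = C.r) (G0 S M : Subgroup G)
    (hG0 : ∀ k ∈ C.kl, a k ∈ G0) (hG0' : G0 ≤ Subgroup.closure {g | ∃ k ∈ C.kl, g = a k}) [Finite G0]
    (hS : ∀ g, g ∈ S ↔ g ∈ G0 ∧ act g r = r) (hSM : S ≤ M) (hMG : M ≤ G0) : M = S ∨ M = G0 := by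
  simp only [ok, Bool.and_eq_true] at hC
  obtain ⟨⟨⟨⟨⟨hW, ⟨hl1, hl2⟩, hrm⟩, hv⟩, hcl⟩, hpr⟩, hpa⟩ := hC
  rw [Nat.beq_eq] at hl1 hl2
  have hword : ∀ w, C.letters w = true → (∀ k ∈ w, k < 6) ∧ (w.map a).prod ∈ G0 := fun w hw => by
    have hk : ∀ k ∈ w, k ∈ C.kl := fun k hk => nmem_iff.1 (List.all_eq_true.1 hw k hk)
    refine ⟨fun k h => h6 k (hk k h), Subgroup.list_prod_mem _ fun g hg => ?_⟩
    obtain ⟨k, hk', rfl⟩ := List.mem_map.1 hg
    exact hG0 k (hk k hk')
  -- the orbit is closed
  have horb : ∀ g ∈ G0, ∀ i : Fin 416, i.1 ∈ C.pts → (act g i).1 ∈ C.pts := by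
    intro g hg
    have hfin : g ∈ Subgroup.closure {g | ∃ k ∈ C.kl, g = a k} := hG0' hg
    induction hfin using Subgroup.closure_induction'' with
    | mem x hx =>
      intro i hi
      obtain ⟨k, hk, rfl⟩ := hx
      rw [hact k (h6 k hk)]
      exact nmem_iff.1 (List.all_eq_true.1 (List.all_eq_true.1 hcl k hk) i.1 hi)
    | inv_mem x hx =>
      intro i hi
      obtain ⟨k, hk, rfl⟩ := hx
      obtain ⟨n, hn⟩ : ∃ n : ℕ, (a k)⁻¹ = a k ^ n := by
        refine ⟨orderOf (a k) - 1, inv_eq_of_mul_eq_one_right ?_⟩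
        have hpos : 0 < orderOf (a k) := by
          rw [← Subgroup.orderOf_mk (a k) (hG0 k hk)]
          exact orderOf_pos _
        rw [← pow_succ', Nat.sub_add_cancel hpos, pow_orderOf_eq_one]
      rw [hn]
      clear hn
      induction n with
      | zero => simpa using hi
      | succ n ih =>
        rw [pow_succ', map_mul, Equiv.Perm.mul_apply, hact k (h6 k hk)]
        exact nmem_iff.1 (List.all_eq_true.1 (List.all_eq_true.1 hcl k hk) _ ih)
    | one => intro i hi; simpa using hi
    | mul x y hx hy ihx ihy =>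
      intro i hi
      rw [map_mul, Equiv.Perm.mul_apply]
      have hle : ∀ z, z ∈ Subgroup.closure {g | ∃ k ∈ C.kl, g = a k} → z ∈ G0 := fun z hz =>
        (Subgroup.closure_le _).2 (by rintro _ ⟨k, hk, rfl⟩; exact hG0 k hk) hz
      exact ihx (hle _ hx) _ (ihy (hle _ hy) i hi)
  -- the transversal
  have htr : ∀ i : Fin 416, i.1 ∈ C.pts → ((C.vOf i.1).map a).prod ∈ G0 ∧ act ((C.vOf i.1).map a).prod r = i := by
    intro i hi
    have hlt : C.pts.idxOf i.1 < C.pts.length := List.idxOf_lt_length_iff.2 hi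
    have hm : (C.pts.idxOf i.1) < (C.pts.zip C.trans).length := by simp; omega
    have h := List.all_eq_true.1 hv _ (List.getElem_mem hm)
    simp only [List.getElem_zip, Bool.and_eq_true, Nat.beq_eq, List.getElem_idxOf] at h
    have e : C.vOf i.1 = C.trans[C.pts.idxOf i.1]'(by omega) := List.getD_eq_getElem _ _ _
    rw [e]
    refine ⟨(hword _ h.1).2, Fin.ext ?_⟩
    rw [act_word a act hact _ (hword _ h.1).1, hr, h.2]
  by_cases hmove : ∀ m ∈ M, act m r = r
  · exact Or.inl (le_antisymm (fun m hm => (hS m).2 ⟨hMG hm, hmove m hm⟩) hSM)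
  push Not at hmove
  obtain ⟨m₀, hm₀, hne⟩ := hmove
  -- the points of the orbit of the overgroup
  let B : ℕ → Prop := fun q => ∃ i : Fin 416, i.1 = q ∧ ∃ m ∈ M, act m r = i
  have hstab : ∀ k, k < C.stab.length → ∀ q, B q → B (wAct (C.stab.getD k []) q) := by
    rintro k hk _ ⟨i, rfl, m, hm, rfl⟩
    have h := List.all_eq_true.1 hW _ (List.getElem_mem hk)
    simp only [Bool.and_eq_true, Nat.beq_eq] at h
    rw [List.getD_eq_getElem _ _ hk]
    have hs : (C.stab[k].map a).prod ∈ S := (hS _).2 ⟨(hword _ h.1).2, Fin.ext (by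
      rw [act_word a act hact _ (hword _ h.1).1, hr, h.2])⟩
    refine ⟨act ((C.stab[k].map a).prod * m) r, ?_, _, mul_mem (hSM hs) hm, rfl⟩
    rw [map_mul, Equiv.Perm.mul_apply, act_word a act hact _ (hword _ h.1).1]
  have hv' : ∀ c b, B c → c ∈ C.pts → B b → B (wAct (C.vOf c) b) := by
    rintro _ _ ⟨i, rfl, m, hm, hmi⟩ hc ⟨j, rfl, m', hm', rfl⟩
    obtain ⟨hvG, hvr⟩ := htr i hc
    have hvM : ((C.vOf i.1).map a).prod ∈ M := by
      have hs : m⁻¹ * ((C.vOf i.1).map a).prod ∈ S := (hS _).2 ⟨mul_mem (inv_mem (hMG hm)) hvG, by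
        rw [map_mul, Equiv.Perm.mul_apply, hvr, ← hmi, ← Equiv.Perm.mul_apply, ← map_mul, inv_mul_cancel,
          map_one, Equiv.Perm.one_apply]⟩
      have := mul_mem hm (hSM hs)
      rwa [mul_inv_cancel_left] at this
    refine ⟨act (((C.vOf i.1).map a).prod * m') r, ?_, _, mul_mem hvM hm', rfl⟩
    have hlt : C.pts.idxOf i.1 < C.pts.length := List.idxOf_lt_length_iff.2 hc
    have hm2 : C.pts.idxOf i.1 < (C.pts.zip C.trans).length := by simp; omega
    have h := List.all_eq_true.1 hv _ (List.getElem_mem hm2)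
    simp only [List.getElem_zip, Bool.and_eq_true] at h
    rw [map_mul, Equiv.Perm.mul_apply, act_word a act hact]
    rw [show C.vOf i.1 = C.trans[C.pts.idxOf i.1]'(by omega) from List.getD_eq_getElem _ _ _]
    exact (hword _ h.1).1
  have hr' : r.1 ∈ C.pts := hr ▸ nmem_iff.1 hrm
  -- a moved point reaches a representative
  obtain ⟨E, hE, hE0⟩ : ∃ E ∈ C.progs, B (E.getD 0 (0, 0, 0, 0)).1 := by
    have hx : (act m₀ r).1 ∈ C.pts := horb _ (hMG hm₀) r hr'
    have hlt : C.pts.idxOf (act m₀ r).1 < C.pts.length := List.idxOf_lt_length_iff.2 hx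
    have hm : C.pts.idxOf (act m₀ r).1 < (C.pts.zip C.paths).length := by simp; omega
    have h := List.all_eq_true.1 hpa _ (List.getElem_mem hm)
    simp only [List.getElem_zip, List.getElem_idxOf, Bool.or_eq_true, Bool.and_eq_true, Nat.beq_eq] at h
    rcases h with h | ⟨hks, h⟩
    · exact absurd (Fin.ext (h.trans hr.symm)) hne
    · obtain ⟨E, hE, e⟩ := List.mem_map.1 (nmem_iff.1 h)
      refine ⟨E, hE, ?_⟩
      rw [e]
      have key : ∀ (p : List ℕ) (x : ℕ), p.all (fun k => Nat.blt k C.stab.length) = true → B x →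
          B (C.pathEnd p x) := by
        intro p
        induction p with
        | nil => exact fun x _ hx => hx
        | cons k p ih =>
          intro x hp hx
          simp only [List.all_cons, Bool.and_eq_true, Nat.blt_eq] at hp
          exact ih _ hp.2 (hstab k hp.1 x hx)
      exact key _ _ hks ⟨_, rfl, m₀, hm₀, rfl⟩
  -- the closure
  have hprog := List.all_eq_true.1 hpr E hE
  rw [progOK, Bool.and_eq_true] at hprog
  have hall : ∀ j, j < E.length → B (E.getD j (0, 0, 0, 0)).1 := by
    intro j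
    induction j using Nat.strong_induction_on with
    | _ j ih =>
      intro hj
      rcases j with _ | j
      · exact hE0
      have hm : j + 1 < ((List.range E.length).zip E).length := by simp; omega
      have h := List.all_eq_true.1 hprog.1 _ (List.getElem_mem hm)
      simp only [List.getElem_zip, List.getElem_range] at h
      rw [List.getD_eq_getElem _ _ hj]
      generalize E[j + 1] = e at h ⊢
      obtain ⟨q, c, k, b⟩ := e
      rcases c with _ | c
      · simp only [entryOK, Bool.and_eq_true, Nat.blt_eq, Nat.beq_eq] at h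
        obtain ⟨⟨hk, hb⟩, rfl⟩ := h
        exact hstab k hk _ (ih b hb (by omega))
      · simp only [entryOK, Bool.and_eq_true, Nat.blt_eq, Nat.beq_eq, nmem_iff] at h
        obtain ⟨⟨⟨hc, hb⟩, hcp⟩, rfl⟩ := h
        exact hv' _ _ (ih c hc (by omega)) hcp (ih b hb (by omega))
  refine Or.inr (le_antisymm hMG fun g hg => ?_)
  have hmem : (act g r).1 ∈ E.map Prod.fst :=
    nmem_iff.1 (List.all_eq_true.1 hprog.2 _ (horb g hg r hr'))
  obtain ⟨j, hj, hje⟩ := List.mem_iff_getElem.1 hmem
  rw [List.length_map] at hj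
  rw [List.getElem_map] at hje
  obtain ⟨i, hi, m, hm, hmi⟩ := hall j hj
  rw [List.getD_eq_getElem _ _ hj, hje] at hi
  have hs : m⁻¹ * g ∈ S := (hS _).2 ⟨mul_mem (inv_mem (hMG hm)) hg, by
    rw [map_mul, Equiv.Perm.mul_apply, show act g r = i from Fin.ext hi.symm, ← hmi, ← Equiv.Perm.mul_apply,
      ← map_mul, inv_mul_cancel, map_one, Equiv.Perm.one_apply]⟩
  have := mul_mem hm (hSM hs)
  rwa [mul_inv_cancel_left] at this

end

end Ctx

/-- The whole group on 416 points. -/
def topCtx : Ctx := ⟨[0, 1, 2, 3, 4, 5], topBase, topPts, topTrans, topStab, topPaths, topProgs⟩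

/-- The point stabiliser on the far suborbit. -/
def farCtx : Ctx := ⟨[0, 1, 2, 3, 4], farBase, farPts, farTrans, farStab, farPaths, farProgs⟩

/-- The point stabiliser on the near suborbit. -/
def nearCtx : Ctx := ⟨[0, 1, 2, 3, 4], nearBase, nearPts, nearTrans, nearStab, nearPaths, nearProgs⟩

end CfsgLib.Recog.GTwoFourJTwo
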