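import Cfsg.Agent.Lib.Recog.GTwoFourJTwo.Data
import Cfsg.Agent.Lib.Recog.JankoTwo.Model
import Cfsg.Agent.Lib.Recog.SporBound.SuzGTwo

/-!
The group on five of the six letters is the Hall-Janko group (owner: helper18).
-/

set_option autoImplicit false
set_option maxRecDepth 100000

namespace CfsgLib.Recog.GTwoFourJTwo

open CfsgLib.Recog.SporBound
open CfsgLib.ThreeTrans.CosetIndex (eqLetter)
open JankoTwo (S315 pget allPts allPts_iff wordAt Rep gen gen_rep strong0 mem_of_word inside_strong0)

/-- A letter. -/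
def lett5 (x : ℕ) : FreeGroup (Fin 5) := if h : x < 5 then FreeGroup.of ⟨x, h⟩ else 1

/-- The relators on five letters. -/
def rels5 : Set (FreeGroup (Fin 5)) := {r | ∃ w ∈ SuzB.cert.rels, r = (w.map lett5).prod}

/-- The presented group on five letters. -/
abbrev P5 : Type := PresentedGroup rels5

/-- The letters. -/
def a5 (x : ℕ) : P5 := PresentedGroup.mk rels5 (lett5 x)

theorem rel5_one {w : List ℕ} (h : w ∈ SuzB.cert.rels) : (w.map a5).prod = 1 := by
  rw [show a5 = PresentedGroup.mk rels5 ∘ lett5 from rfl, ← List.map_map, ← map_list_prod]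
  exact PresentedGroup.one_of_mem ⟨w, h, rfl⟩

theorem a5_sq (x : ℕ) : a5 x * a5 x = 1 := by
  by_cases h : x < 5
  · simpa using rel5_one ((show ∀ x < 5, [x, x] ∈ SuzB.cert.rels by decide +kernel) x h)
  · simp [a5, lett5, h]

theorem a5_eq : a5 eqLetter = 1 := by simp [a5, lett5, eqLetter]

theorem closure_a5 : Subgroup.closure {g | ∃ x ∈ [0, 1, 2, 3, 4], g = a5 x} = ⊤ := by
  rw [eq_top_iff, ← PresentedGroup.closure_range_of, Subgroup.closure_le]
  rintro _ ⟨y, rfl⟩
  refine Subgroup.subset_closure ⟨y.1, ?_, ?_⟩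
  · fin_cases y <;> simp
  · simp [a5, lett5, PresentedGroup.of]

theorem card_P5 : Finite P5 ∧ Nat.card P5 ≤ 604800 := by
  obtain ⟨f1, h1⟩ := Cert.card_le a5_sq a5_eq SuzA.ok ⊥ (Subgroup.closure {g | ∃ x ∈ SuzA.cert.kl, g = a5 x})
    (fun w hw => rel5_one (List.contains_iff_mem.1 (List.all_eq_true.1
      (show (SuzA.cert.rels.all fun w => SuzB.cert.rels.contains w) = true by decide +kernel) w hw)))
    (fun w hw => absurd hw List.not_mem_nil) le_rfl
  rw [show SuzA.cert.n = 2160 from rfl, Subgroup.card_bot, mul_one] at h1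
  obtain ⟨f2, h2⟩ := Cert.card_le a5_sq a5_eq SuzB.ok (Subgroup.closure {g | ∃ x ∈ SuzA.cert.kl, g = a5 x}) ⊤
    (fun w hw => rel5_one hw)
    (fun w hw => by
      refine Subgroup.list_prod_mem _ fun g hg => ?_
      obtain ⟨x, hx, rfl⟩ := List.mem_map.1 hg
      exact Subgroup.subset_closure ⟨x, List.contains_iff_mem.1 (List.all_eq_true.1 (List.all_eq_true.1
        (show (SuzB.cert.subs.all fun w => w.all (SuzA.cert.kl.contains ·)) = true by decide +kernel) w hw) x hx), rfl⟩)
    (by rw [show SuzB.cert.kl = [0, 1, 2, 3, 4] from rfl, closure_a5])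
  refine ⟨Finite.of_equiv _ Subgroup.topEquiv.toEquiv, ?_⟩
  rw [← Subgroup.card_top]
  exact h2.trans (by rw [show SuzB.cert.n = 280 from rfl]; omega)

theorem exists_hom5 {M : Type*} [Group M] (b : ℕ → M) (hb : ∀ w ∈ SuzB.cert.rels, (w.map b).prod = 1) :
    ∃ φ : P5 →* M, ∀ x < 5, φ (a5 x) = b x := by
  refine ⟨PresentedGroup.toGroup (f := fun i : Fin 5 => b i.1) ?_, fun x hx => ?_⟩
  · rintro _ ⟨w, hw, rfl⟩
    rw [map_list_prod, List.map_map, ← hb w hw]
    refine congrArg List.prod (List.map_congr_left fun x hx => ?_)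
    have := List.all_eq_true.1 (List.all_eq_true.1
      (show (SuzB.cert.rels.all fun w => w.all fun x => Nat.blt x 5) = true by decide +kernel) w hw) x hx
    simp only [Nat.blt_eq] at this
    simp [lett5, this]
  · simp only [a5, lett5, dif_pos hx]
    exact PresentedGroup.toGroup.of _

theorem janko_check :
    ((List.range 5).all fun x => (imgWords.getD x []).all (fun j => Nat.blt j 4) &&
      allPts fun i => pget (imgs.getD x 0) i == wordAt strong0 (imgWords.getD x []) i) = true ∧
    (SuzB.cert.rels.all fun w => allPts fun i => wordAt imgs w i == i) = true ∧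
    ((List.range 4).all fun k => (backWords.getD k []).all (fun j => Nat.blt j 5) &&
      allPts fun i => pget (strong0.getD k 0) i == wordAt imgs (backWords.getD k []) i) = true ∧
    imgs.length = 5 ∧ strong0.length = 4 := by
  decide +kernel

/-- The group on five letters is the Hall-Janko group. -/
theorem equiv_J2 : Nonempty (P5 ≃* Cfsg.Spor.J2) := by
  obtain ⟨himg, hrel, hback, hlen, hlen0⟩ := janko_check
  have hex : ∀ x, ∃ g : JankoTwo.P, x < 5 → Rep (g : S315) (imgs.getD x 0) := fun x => by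
    by_cases hx : x < 5
    · have h := List.all_eq_true.1 himg x (List.mem_range.2 hx)
      simp only [Bool.and_eq_true, List.all_eq_true, Nat.blt_eq, allPts_iff, beq_iff_eq] at h
      obtain ⟨σ, hσ, hw⟩ := mem_of_word inside_strong0 (w := imgWords.getD x [])
        (fun j hj => by rw [hlen0]; exact h.1 j hj)
      exact ⟨⟨σ, hσ⟩, fun _ i => (h.2 i).trans (hw i)⟩
    · exact ⟨1, fun h => absurd h hx⟩
  choose b hb using hex
  have hword : ∀ w : List ℕ, (∀ x ∈ w, x < 5) → ∀ i : Fin 315,
      wordAt imgs w i.1 = (((w.map b).prod : JankoTwo.P) : S315) i := by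
    intro w
    induction w with
    | nil => intro _ i; rfl
    | cons x w ih =>
      intro h i
      show pget (imgs.getD x 0) (wordAt imgs w i.1) = _
      rw [ih (fun j hj => h j (List.mem_cons_of_mem _ hj)) i, hb x (h x (by simp))]
      rfl
  obtain ⟨φ, hφ⟩ := exists_hom5 b fun w hw => Subtype.ext (Equiv.ext fun i => Fin.ext (by
    have h := List.all_eq_true.1 hrel w hw
    simp only [allPts_iff, beq_iff_eq] at h
    rw [← hword w (fun x hx => Nat.blt_eq.mp (List.all_eq_true.1 (List.all_eq_true.1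
      (show (SuzB.cert.rels.all fun w => w.all fun x => Nat.blt x 5) = true by decide +kernel) w hw) x hx)) i, h i]
    rfl))
  have hsurj : Function.Surjective φ := by
    intro g
    obtain ⟨g, hg⟩ := g
    suffices g ∈ φ.range.map JankoTwo.P.subtype by
      obtain ⟨y, ⟨z, rfl⟩, hy⟩ := this
      exact ⟨z, Subtype.ext hy⟩
    refine (Subgroup.closure_le _).2 ?_ hg
    rintro _ ⟨k, rfl⟩
    have h := List.all_eq_true.1 hback k.1 (List.mem_range.2 k.2)
    simp only [Bool.and_eq_true, List.all_eq_true, Nat.blt_eq, allPts_iff, beq_iff_eq] at h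
    refine ⟨((backWords.getD k.1 []).map b).prod, ⟨((backWords.getD k.1 []).map a5).prod, ?_⟩,
      Equiv.ext fun i => Fin.ext ?_⟩
    · rw [map_list_prod, List.map_map]
      exact congrArg List.prod (List.map_congr_left fun x hx => hφ x (h.1 x hx))
    · show ((((backWords.getD k.1 []).map b).prod : JankoTwo.P) : S315) i = (gen k i : ℕ)
      rw [← hword _ h.1 i, ← h.2 i, gen_rep k i]
  haveI := card_P5.1
  exact ⟨(MulEquiv.ofBijective φ ((Nat.bijective_iff_surjective_and_card φ).2 ⟨hsurj,
    le_antisymm (card_P5.2.trans_eq JankoTwo.card_P.symm) (Nat.card_le_card_of_surjective φ hsurj)⟩)).trans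
    JankoTwo.equivP.symm⟩

end CfsgLib.Recog.GTwoFourJTwo
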