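import Cfsg.Agent.Lib.Recog.GTwoFourJTwo.Blocks
import Cfsg.Agent.Lib.Recog.GTwoFourJTwo.Janko

/-!
The action of G₂(4) on the cosets of J₂ is extremely primitive (owner: helper18).
-/

set_option autoImplicit false
set_option maxRecDepth 100000
set_option maxHeartbeats 4000000

namespace CfsgLib.Recog.GTwoFourJTwo

open CfsgLib.Recog.SporBound
open CfsgLib.ThreeTrans.CosetIndex (eqLetter)

theorem table_check :
    ((List.range 6).all fun k => (List.range 416).all fun i => Nat.blt (pt k i) 416 && Nat.beq (pt k (pt k i)) i) =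
      true ∧
    (SuzC.cert.rels.all fun w => (List.range 416).all fun i => Nat.beq (wAct w i) i) = true ∧
    ((List.range 5).all fun k => Nat.beq (pt k 0) 0) = true ∧
    ((List.range 416).all fun i => topCtx.letters (topCtx.vOf i) && Nat.beq (wAct (topCtx.vOf i) 0) i) = true ∧
    ((List.range 416).all fun i => Nat.beq i 0 || nmem i nearPts || nmem i farPts) = true := by
  decide +kernel

theorem ctx_check (C : Ctx) (hC : C = topCtx ∨ C = nearCtx ∨ C = farCtx) :
    C.ok = true ∧ C.r < 416 ∧ (C.kl.any fun k => !Nat.beq (pt k C.r) C.r) = true := by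
  rcases hC with rfl | rfl | rfl <;> decide +kernel

theorem exists_action : ∃ act : SuzGTwo.P →* Equiv.Perm (Fin 416),
    ∀ k, k < 6 → ∀ i : Fin 416, ((act (SuzGTwo.aP k)) i).1 = pt k i.1 := by
  obtain ⟨htab, hrel, -⟩ := table_check
  have hp : ∀ k, ∃ p : Equiv.Perm (Fin 416), k < 6 → ∀ i : Fin 416, (p i).1 = pt k i.1 := by
    intro k
    by_cases hk : k < 6
    · have h := List.all_eq_true.1 htab k (List.mem_range.2 hk)
      simp only [List.all_eq_true, List.mem_range, Bool.and_eq_true, Nat.blt_eq, Nat.beq_eq] at h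
      let f : Fin 416 → Fin 416 := fun i => ⟨pt k i.1, (h i.1 i.2).1⟩
      have hf : ∀ i, f (f i) = i := fun i => Fin.ext (h i.1 i.2).2
      exact ⟨⟨f, f, hf, hf⟩, fun _ i => rfl⟩
    · exact ⟨1, fun h => absurd h hk⟩
  choose p hp using hp
  have hword : ∀ w : List ℕ, (∀ k ∈ w, k < 6) → ∀ i : Fin 416, ((w.map p).prod i).1 = wAct w i.1 := by
    intro w
    induction w with
    | nil => intro _ i; rfl
    | cons k w ih =>
      intro h i
      rw [List.map_cons, List.prod_cons, Equiv.Perm.mul_apply, hp k (h k (by simp)),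
        ih (fun j hj => h j (List.mem_cons_of_mem _ hj))]
      rfl
  obtain ⟨φ, hφ⟩ := SuzGTwo.exists_hom p fun w hw => Equiv.ext fun i => Fin.ext (by
    have h := List.all_eq_true.1 (List.all_eq_true.1 hrel w hw) i.1 (List.mem_range.2 i.2)
    rw [hword w (fun k hk => Nat.blt_eq.mp (List.all_eq_true.1 (List.all_eq_true.1 SuzGTwo.letters_small w hw) k hk)),
      Nat.eq_of_beq_eq_true h]
    rfl)
  exact ⟨φ, fun k hk i => by rw [hφ k hk, hp k hk i]⟩

theorem closure_six : Subgroup.closure {g | ∃ k ∈ [0, 1, 2, 3, 4, 5], g = SuzGTwo.aP k} = ⊤ := by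
  rw [eq_top_iff, ← PresentedGroup.closure_range_of, Subgroup.closure_le]
  rintro _ ⟨y, rfl⟩
  refine Subgroup.subset_closure ⟨y.1, ?_, ?_⟩
  · fin_cases y <;> simp
  · simp [SuzGTwo.aP, SuzGTwo.lett, PresentedGroup.of]

/-- Five letters generate a maximal Hall-Janko subgroup, with maximal two point stabilisers. -/
theorem extremely_primitive {G : Type*} [Group G] (e : SuzGTwo.P ≃* G) (hcard : Nat.card G = 251596800) :
    ∃ H : Subgroup G, IsCoatom H ∧ Cfsg.Spor.IsoJ2 H ∧
      ∀ x : G, x ∉ H → IsCoatom ((H ⊓ H.map (MulAut.conj x).toMonoidHom).subgroupOf H) := by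
  haveI : Finite G := Nat.finite_of_card_ne_zero (by rw [hcard]; norm_num)
  obtain ⟨-, -, hfix, htr, hcov⟩ := table_check
  obtain ⟨act₀, hact₀⟩ := exists_action
  let act : G →* Equiv.Perm (Fin 416) := act₀.comp e.symm.toMonoidHom
  let a : ℕ → G := fun k => e (SuzGTwo.aP k)
  have hact : ∀ k, k < 6 → ∀ i : Fin 416, ((act (a k)) i).1 = pt k i.1 := fun k hk i => by
    simp [act, a, hact₀ k hk i]
  have ha : ∀ x, a x * a x = 1 := fun x => by simp only [a, ← map_mul, SuzGTwo.aP_sq, map_one]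
  have hae : a eqLetter = 1 := by simp only [a, SuzGTwo.aP_eq, map_one]
  have hrels : ∀ w ∈ SuzC.cert.rels, (w.map a).prod = 1 := fun w hw => by
    rw [show a = e ∘ SuzGTwo.aP from rfl, ← List.map_map, ← map_list_prod, SuzGTwo.rel_one hw, map_one]
  have htop : Subgroup.closure {g | ∃ k ∈ [0, 1, 2, 3, 4, 5], g = a k} = ⊤ := by
    have h := congrArg (Subgroup.map e.toMonoidHom) closure_six
    rw [MonoidHom.map_closure, Subgroup.map_top_of_surjective _ e.surjective] at h
    rw [← h]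
    congr 1
    ext g
    simp only [Set.mem_image, Set.mem_ofPred_eq, MulEquiv.toMonoidHom_eq_coe, MonoidHom.coe_coe]
    constructor
    · rintro ⟨k, hk, rfl⟩; exact ⟨_, ⟨k, hk, rfl⟩, rfl⟩
    · rintro ⟨_, ⟨k, hk, rfl⟩, rfl⟩; exact ⟨k, hk, rfl⟩
  set H := Subgroup.closure {g | ∃ k ∈ [0, 1, 2, 3, 4], g = a k} with hH
  have haH : ∀ k ∈ [0, 1, 2, 3, 4], a k ∈ H := fun k hk => Subgroup.subset_closure ⟨k, hk, rfl⟩
  have hge : 604800 ≤ Nat.card H := by
    obtain ⟨-, h⟩ := Cert.card_le ha hae SuzC.ok H ⊤ hrels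
      (fun w hw => by
        refine Subgroup.list_prod_mem _ fun g hg => ?_
        obtain ⟨x, hx, rfl⟩ := List.mem_map.1 hg
        exact haH x (List.contains_iff_mem.1 (List.all_eq_true.1 (List.all_eq_true.1
          (show (SuzC.cert.subs.all fun w => w.all ([0, 1, 2, 3, 4].contains ·)) = true by decide +kernel) w hw) x hx)))
      (by rw [show SuzC.cert.kl = [0, 1, 2, 3, 4, 5] from rfl, htop])
    rw [Subgroup.card_top, hcard, show SuzC.cert.n = 416 from rfl] at h
    omega
  obtain ⟨ψ, hψ⟩ := exists_hom5 a fun w hw => hrels w (List.contains_iff_mem.1 (List.all_eq_true.1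
    (show (SuzB.cert.rels.all fun w => SuzC.cert.rels.contains w) = true by decide +kernel) w hw))
  have hrange : ψ.range = H := by
    rw [MonoidHom.range_eq_map, ← closure_a5, MonoidHom.map_closure, hH]
    congr 1
    ext g
    simp only [Set.mem_image, Set.mem_ofPred_eq]
    constructor
    · rintro ⟨_, ⟨k, hk, rfl⟩, rfl⟩
      exact ⟨k, hk, hψ k (by simp at hk; omega)⟩
    · rintro ⟨k, hk, rfl⟩
      exact ⟨_, ⟨k, hk, rfl⟩, hψ k (by simp at hk; omega)⟩
  haveI := card_P5.1
  have hle5 : Nat.card H ≤ Nat.card P5 :=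
    hrange ▸ Nat.card_le_card_of_surjective _ ψ.rangeRestrict_surjective
  obtain ⟨eJ⟩ := equiv_J2
  have hiso : Cfsg.Spor.IsoJ2 H := by
    have hb := (Nat.bijective_iff_surjective_and_card ψ.rangeRestrict).2
      ⟨ψ.rangeRestrict_surjective, le_antisymm (by rw [hrange]; exact le_trans card_P5.2 hge)
        (Nat.card_le_card_of_surjective _ ψ.rangeRestrict_surjective)⟩
    exact ⟨(((MulEquiv.ofBijective _ hb).trans (MulEquiv.subgroupCongr hrange)).symm).trans eJ⟩
  have hcardH : Nat.card H = 604800 := le_antisymm (hle5.trans card_P5.2) hge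
  let o : Fin 416 := 0
  have htrans : ∀ i : Fin 416, act (((topCtx.vOf i.1).map a).prod) o = i := fun i => by
    have h := List.all_eq_true.1 htr i.1 (List.mem_range.2 i.2)
    simp only [Bool.and_eq_true, Nat.beq_eq] at h
    refine Fin.ext ?_
    rw [Ctx.act_word a act hact _ (fun k hk => by
      have := nmem_iff.1 (List.all_eq_true.1 h.1 k hk)
      simp [topCtx] at this
      omega)]
    exact h.2
  have hmem : ∀ g, g ∈ H ↔ act g o = o := by
    let T : Subgroup G := (MulAction.stabilizer (Equiv.Perm (Fin 416)) o).comap act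
    have hHT : H ≤ T := (Subgroup.closure_le _).2 (by
      rintro _ ⟨k, hk, rfl⟩
      have hk6 : k < 6 := by simp at hk; omega
      have h := List.all_eq_true.1 hfix k (List.mem_range.2 (by simp at hk; omega))
      exact Fin.ext ((hact k hk6 o).trans (Nat.eq_of_beq_eq_true h)))
    have hT : Nat.card (Fin 416 × T) ≤ Nat.card G := by
      refine Nat.card_le_card_of_injective (fun p => ((topCtx.vOf p.1.1).map a).prod * p.2.1) ?_
      rintro ⟨i, t⟩ ⟨j, t'⟩ h
      have ht : ∀ u : T, act u.1 o = o := fun u => u.2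
      have hij : i = j := by
        have := congrArg (fun g => act g o) h
        simpa [map_mul, Equiv.Perm.mul_apply, ht, htrans] using this
      subst hij
      exact Prod.ext rfl (Subtype.ext (mul_left_cancel h))
    rw [Nat.card_prod, Nat.card_fin, hcard] at hT
    have hTH : H = T := Subgroup.eq_of_le_of_card_ge hHT (by rw [hcardH]; omega)
    exact fun g => by rw [hTH]; rfl
  have hcl6 : ∀ k ∈ ([0, 1, 2, 3, 4, 5] : List ℕ), k < 6 := by simp
  refine ⟨H, ⟨?_, fun M hM => ?_⟩, hiso, fun x hx => ?_⟩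
  · intro h
    rw [h, Subgroup.card_top, hcard] at hcardH
    omega
  · obtain ⟨hok, hr, -⟩ := ctx_check topCtx (Or.inl rfl)
    rcases Ctx.dichotomy a act hact hok hcl6 o rfl ⊤ H M (fun k _ => Subgroup.mem_top _) htop.ge
      (fun g => by rw [hmem g]; simp) hM.le le_top with h | h
    · exact absurd h hM.ne'
    · exact h
  have hxi : act x o ≠ o := fun h => hx ((hmem x).2 h)
  obtain ⟨C, hC, hiC⟩ : ∃ C, (C = nearCtx ∨ C = farCtx) ∧ (act x o).1 ∈ C.pts := by
    have h := List.all_eq_true.1 hcov (act x o).1 (List.mem_range.2 (act x o).2)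
    simp only [Bool.or_eq_true, Nat.beq_eq] at h
    rcases h with (h | h) | h
    · exact absurd (Fin.ext h) hxi
    · exact ⟨nearCtx, Or.inl rfl, nmem_iff.1 h⟩
    · exact ⟨farCtx, Or.inr rfl, nmem_iff.1 h⟩
  obtain ⟨hok, hr, hmove⟩ := ctx_check C (Or.inr hC)
  have hkl : C.kl = [0, 1, 2, 3, 4] := by rcases hC with rfl | rfl <;> rfl
  let r : Fin 416 := ⟨C.r, hr⟩
  have hok' := hok
  simp only [Ctx.ok, Bool.and_eq_true] at hok'
  obtain ⟨⟨⟨⟨⟨-, ⟨hl1, -⟩, -⟩, hv⟩, -⟩, -⟩, -⟩ := hok'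
  rw [Nat.beq_eq] at hl1
  set i := act x o with hi
  obtain ⟨h₀, hh₀, hh₀i⟩ : ∃ h₀ ∈ H, act h₀ r = i := by
    have hlt : C.pts.idxOf i.1 < C.pts.length := List.idxOf_lt_length_iff.2 hiC
    have hm : C.pts.idxOf i.1 < (C.pts.zip C.trans).length := by simp; omega
    have h := List.all_eq_true.1 hv _ (List.getElem_mem hm)
    simp only [List.getElem_zip, Bool.and_eq_true, Nat.beq_eq, List.getElem_idxOf] at h
    obtain ⟨hl, hw⟩ := h
    have hk : ∀ k ∈ C.trans[C.pts.idxOf i.1]'(by omega), k ∈ ([0, 1, 2, 3, 4] : List ℕ) := fun k hk =>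
      hkl ▸ nmem_iff.1 (List.all_eq_true.1 hl k hk)
    refine ⟨_, Subgroup.list_prod_mem _ (l := (C.trans[C.pts.idxOf i.1]'(by omega)).map a) (fun g hg => ?_),
      Fin.ext ?_⟩
    · obtain ⟨k, hk', rfl⟩ := List.mem_map.1 hg
      exact haH k (hk k hk')
    · rw [Ctx.act_word a act hact _ (fun k hk' => by have := hk k hk'; simp at this; omega)]
      exact hw
  have hS : ∀ g, g ∈ H ⊓ H.map (MulAut.conj x).toMonoidHom ↔ g ∈ H ∧ act g i = i := by
    intro g
    rw [Subgroup.mem_inf, Subgroup.mem_map]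
    refine and_congr_right fun _ => ⟨?_, fun h => ⟨x⁻¹ * g * x, (hmem _).2 ?_, by simp [mul_assoc]⟩⟩
    · rintro ⟨y, hy, rfl⟩
      show act (x * y * x⁻¹) i = i
      simp [hi, map_mul, Equiv.Perm.mul_apply, (hmem y).1 hy]
    · rw [map_mul, map_mul, Equiv.Perm.mul_apply, Equiv.Perm.mul_apply, ← hi, h, hi, map_inv,
        Equiv.Perm.inv_def, Equiv.symm_apply_apply]
  have hback : (act h₀⁻¹) i = r := by rw [map_inv, Equiv.Perm.inv_def, Equiv.symm_apply_eq, hh₀i]
  refine ⟨fun h => ?_, fun N hN => ?_⟩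
  · obtain ⟨k, hk, hne⟩ := List.any_eq_true.1 hmove
    rw [hkl] at hk
    have hg : h₀ * a k * h₀⁻¹ ∈ H := mul_mem (mul_mem hh₀ (haH k hk)) (inv_mem hh₀)
    have h' := ((hS _).1 (Subgroup.mem_subgroupOf.1 (h ▸ Subgroup.mem_top (⟨_, hg⟩ : H)))).2
    rw [map_mul, map_mul, Equiv.Perm.mul_apply, Equiv.Perm.mul_apply, hback] at h'
    have h'' : (act h₀) (act (a k) r) = act h₀ r := h'.trans hh₀i.symm
    have e' := congrArg Fin.val ((act h₀).injective h'')
    rw [hact k (by simp at hk; omega)] at e'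
    simp only [Bool.not_eq_true'] at hne
    rw [show pt k C.r = C.r from e', Nat.beq_refl] at hne
    exact Bool.noConfusion hne
  · let S : Subgroup G := H ⊓ (MulAction.stabilizer (Equiv.Perm (Fin 416)) r).comap act
    let M : Subgroup G := (N.map H.subtype).map (MulAut.conj h₀⁻¹).toMonoidHom
    have hM : ∀ g, g ∈ M ↔ ∃ n : H, n ∈ N ∧ h₀⁻¹ * n * h₀ = g := fun g => by
      simp [M, Subgroup.mem_map]
    have hMH : M ≤ H := fun g hg => by
      obtain ⟨n, -, rfl⟩ := (hM g).1 hg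
      exact mul_mem (mul_mem (inv_mem hh₀) n.2) hh₀
    have hSM : S ≤ M := fun g hg => by
      obtain ⟨hgH, hgr⟩ := hg
      have hgr' : act g r = r := hgr
      refine (hM g).2 ⟨⟨h₀ * g * h₀⁻¹, mul_mem (mul_mem hh₀ hgH) (inv_mem hh₀)⟩, hN.le ?_, by group⟩
      rw [Subgroup.mem_subgroupOf, hS]
      refine ⟨mul_mem (mul_mem hh₀ hgH) (inv_mem hh₀), ?_⟩
      rw [map_mul, map_mul, Equiv.Perm.mul_apply, Equiv.Perm.mul_apply, hback, hgr', hh₀i]
    rcases Ctx.dichotomy a act hact hok (fun k hk => by rw [hkl] at hk; simp at hk; omega) r rfl H S M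
      (fun k hk => haH k (hkl ▸ hk)) (by rw [hkl]) (fun g => Iff.rfl) hSM hMH with h | h
    · refine absurd (le_antisymm (fun n hn => ?_) hN.le) hN.ne'
      have h1 : h₀⁻¹ * (n : G) * h₀ ∈ S := h ▸ (hM _).2 ⟨n, hn, rfl⟩
      have h2 : act (h₀⁻¹ * (n : G) * h₀) r = r := h1.2
      rw [Subgroup.mem_subgroupOf, hS]
      refine ⟨n.2, ?_⟩
      rw [map_mul, map_mul, Equiv.Perm.mul_apply, Equiv.Perm.mul_apply, hh₀i, map_inv, Equiv.Perm.inv_def,
        Equiv.symm_apply_eq, hh₀i] at h2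
      exact h2
    · refine (Subgroup.eq_top_iff' N).2 fun n => ?_
      have hmem' : h₀⁻¹ * (n : G) * h₀ ∈ M := by rw [h]; exact mul_mem (mul_mem (inv_mem hh₀) n.2) hh₀
      obtain ⟨n', hn', h'⟩ := (hM _).1 hmem'
      have : n' = n := Subtype.ext (mul_left_cancel (mul_right_cancel h'))
      exact this ▸ hn'

end CfsgLib.Recog.GTwoFourJTwo
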